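import Groth.Agent.CohVanish.AffineMorphism
import Groth.Agent.QCohLib.Pullback
import Groth.Agent.QCohLib.Criterion
import Groth.Agent.S2547

/-!
# Embedding quasi-coherent modules into acyclic ones
-/

set_option autoImplicit false

universe u

open CategoryTheory CategoryTheory.Limits AlgebraicGeometry TopologicalSpace Opposite

namespace Groth.Agent.CheapQC

theorem exists_acyclic_embedding (X : Scheme.{u}) [CompactSpace X]
    (hd : ∀ V W : X.Opens, IsAffineOpen V → IsAffineOpen W → IsAffineOpen (V ⊓ W))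
    (M : X.Modules) [M.IsQuasicoherent] :
    ∃ (M' : X.Modules) (i : M ⟶ M'), Mono i ∧ Coh.IsQCoh M' ∧
      ∀ p : ℕ, 0 < p → Subsingleton (Coh.HH X M' p) := by
  obtain ⟨κ, hκ, W, hW, -, hsup⟩ :=
    QCohLib.exists_finite_affine_cover (X := X) (U := ⊤) CompactSpace.isCompact_univ
  haveI : ∀ a, IsAffine (W a : Scheme.{u}) := hW
  let Z : Scheme.{u} := ∐ fun a => (W a : Scheme.{u})
  let f : Z ⟶ X := Sigma.desc fun a => (W a).ι
  have hf : ∀ a (z : (W a : Scheme.{u})), f ((Sigma.ι (fun a => (W a : Scheme.{u})) a) z) = z.1 :=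
    fun a z => by
      rw [← Scheme.Hom.comp_apply, Sigma.ι_desc]
      rfl
  haveI : Surjective f := ⟨fun x => by
    obtain ⟨a, ha⟩ := Opens.mem_iSup.1 (hsup (Opens.mem_top x))
    exact ⟨_, hf a ⟨x, ha⟩⟩⟩
  haveI : Flat f := by
    refine IsZariskiLocalAtSource.sigmaDesc fun a => ?_
    infer_instance
  haveI : IsAffineHom (pullback.diagonal (terminal.from X)) :=
    isAffineHom_diagonal_iff.2 fun _ _ V _ V' _ hV hV' => hd V V' hV hV'
  haveI : MorphismProperty.HasOfPostcompProperty @IsAffineHom
      (MorphismProperty.diagonal @IsAffineHom) :=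
    MorphismProperty.hasOfPostcompProperty_iff_le_diagonal.mpr le_rfl
  haveI : IsAffineHom f := MorphismProperty.of_postcomp @IsAffineHom
    (W' := MorphismProperty.diagonal @IsAffineHom) f (terminal.from X) ‹_› inferInstance
  haveI : (Scheme.Modules.pullback f).Faithful := S2547.result f
  let N := (Scheme.Modules.pullback f).obj M
  haveI : N.IsQuasicoherent := QCohLib.isQuasicoherent_pullback f M
  let adj := Scheme.Modules.pullbackPushforwardAdjunction f
  refine ⟨(Scheme.Modules.pushforward f).obj N, adj.unit.app M, inferInstance,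
    QCohLib.isQuasicoherent_pushforward f, fun p hp => ?_⟩
  obtain ⟨q, rfl⟩ := Nat.exists_eq_succ_of_ne_zero hp.ne'
  obtain ⟨e⟩ := CohVanish.nonempty_HH_push_equiv f N (q + 1)
  haveI := CohVanish.subsingleton_HH_of_isAffine Z N (q + 1) (Nat.succ_pos q)
  exact e.symm.injective.subsingleton

end Groth.Agent.CheapQC
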