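import Groth.Agent.DQCPush.FlatDescendFinite
import Groth.Agent.DCohPerf.FlatFP
import Groth.Agent.DCohPerf.FreeLocus
import Groth.Agent.ModGroth.PullStalk
import Groth.Agent.ModGroth.FinLocFree
import Groth.Agent.QCohLib.Coherent

/-!
# Descent of finite presentation and local freeness along flat covers
-/

set_option autoImplicit false
universe u
open CategoryTheory AlgebraicGeometry TopologicalSpace Opposite TensorProduct

namespace Groth.Agent.CheapQC

theorem finite_of_jointly' {R : Type u} [CommRing R] {M : Type u} [AddCommGroup M] [Module R M]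
    {ι : Type u} [Finite ι] (B : ι → Type u) [∀ i, CommRing (B i)] [∀ i, Algebra R (B i)]
    [∀ i, Module.Flat R (B i)]
    (hsurj : ∀ p : PrimeSpectrum R, ∃ (i : ι) (q : PrimeSpectrum (B i)),
      PrimeSpectrum.comap (algebraMap R (B i)) q = p)
    (h : ∀ i, Module.Finite (B i) (B i ⊗[R] M)) : Module.Finite R M := by
  classical
  refine FlatDescendFinite.finite_of_jointly B hsurj fun i => ?_
  have htop : Submodule.span (B i) (Set.range fun m : M => (1 : B i) ⊗ₜ[R] m) = ⊤ := by
    rw [eq_top_iff]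
    intro z _
    induction z using TensorProduct.induction_on with
    | zero => exact zero_mem _
    | tmul a m =>
      have : a ⊗ₜ[R] m = a • ((1 : B i) ⊗ₜ[R] m) := by
        rw [TensorProduct.smul_tmul', smul_eq_mul, mul_one]
      rw [this]
      exact Submodule.smul_mem _ _ (Submodule.subset_span ⟨m, rfl⟩)
    | add p q hp hq => exact add_mem (hp trivial) (hq trivial)
  obtain ⟨S, hS, hS2⟩ := (Submodule.fg_span_iff_fg_span_finset_subset _).1
    (htop ▸ (h i).fg_top : (Submodule.span (B i) (Set.range fun m : M => (1 : B i) ⊗ₜ[R] m)).FG)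
  choose g hg using hS
  refine ⟨Set.range (fun x : S => g x.2), Set.finite_range _, ?_⟩
  rw [eq_top_iff, ← htop, hS2, Submodule.span_le]
  exact fun y hy => Submodule.subset_span ⟨g hy, ⟨⟨y, hy⟩, rfl⟩, hg hy⟩

theorem finitePresentation_of_jointly {R : Type u} [CommRing R] {M : Type u} [AddCommGroup M] [Module R M]
    {ι : Type u} [Finite ι] (B : ι → Type u) [∀ i, CommRing (B i)] [∀ i, Algebra R (B i)]
    [∀ i, Module.Flat R (B i)]
    (hsurj : ∀ p : PrimeSpectrum R, ∃ (i : ι) (q : PrimeSpectrum (B i)),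
      PrimeSpectrum.comap (algebraMap R (B i)) q = p)
    (h : ∀ i, Module.FinitePresentation (B i) (B i ⊗[R] M)) : Module.FinitePresentation R M := by
  have hfin : Module.Finite R M := finite_of_jointly' B hsurj fun i => by
    haveI := h i; infer_instance
  obtain ⟨n, π, hπ⟩ := Module.Finite.exists_fin' R M
  have hK : Module.Finite R (LinearMap.ker π) := finite_of_jointly' B hsurj fun i => by
    haveI := h i
    let j := LinearMap.baseChange (B i) (LinearMap.ker π).subtype
    have hj : Function.Injective j :=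
      Module.Flat.lTensor_preserves_injective_linearMap _ (LinearMap.ker π).injective_subtype
    have hex : Function.Exact j (LinearMap.baseChange (B i) π) :=
      lTensor_exact (B i) π.exact_subtype_ker_map hπ
    have hr : LinearMap.range j = LinearMap.ker (LinearMap.baseChange (B i) π) :=
      (LinearMap.exact_iff.1 hex).symm
    have hfg : (LinearMap.range j).FG := hr ▸ Module.FinitePresentation.fg_ker _
      (LinearMap.lTensor_surjective (B i) hπ)
    haveI := Module.Finite.iff_fg.2 hfg
    exact Module.Finite.equiv (LinearEquiv.ofInjective j hj).symm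
  exact Module.finitePresentation_of_surjective π hπ (Module.Finite.iff_fg.1 hK)

variable {X X' : Scheme.{u}} (f : X' ⟶ X) [Flat f] [Surjective f] [QuasiCompact f]

theorem isFP_of_pullback (M : X.Modules) [M.IsQuasicoherent]
    (h : CohB1.IsFP ((Scheme.Modules.pullback f).obj M)) : CohB1.IsFP M := by
  refine (QCohLib.isFinitePresentation_iff_affine M).2 fun U => ?_
  obtain ⟨s, hs, hsU⟩ := (isCompact_and_isOpen_iff_finite_and_eq_biUnion_affineOpens (U := (↑(f ⁻¹ᵁ U.1) : Set X'))).1
    ⟨f.isCompact_preimage U.2.isCompact, (f ⁻¹ᵁ U.1).2⟩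
  have hle : ∀ W : s, W.1.1 ≤ f ⁻¹ᵁ U.1 := fun W z hz => by
    change z ∈ (↑(f ⁻¹ᵁ U.1) : Set X')
    rw [hsU]
    exact Set.mem_biUnion W.2 hz
  haveI : Finite s := hs
  letI : ∀ W : s, Algebra Γ(X, U.1) Γ(X', W.1.1) := fun W => (f.appLE U.1 W.1.1 (hle W)).hom.toAlgebra
  haveI : ∀ W : s, Module.Flat Γ(X, U.1) Γ(X', W.1.1) := fun W =>
    (HasRingHomProperty.appLE (P := @Flat) f inferInstance U W.1 (hle W) :)
  refine finitePresentation_of_jointly (fun W : s => Γ(X', W.1.1)) (fun p => ?_) (fun W => ?_)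
  · have hx : U.2.fromSpec p ∈ U.1 := by
      have : U.2.fromSpec p ∈ U.2.fromSpec.opensRange := ⟨p, rfl⟩
      rwa [U.2.opensRange_fromSpec] at this
    obtain ⟨z, hz⟩ := f.surjective (U.2.fromSpec p)
    have hzU : z ∈ (↑(f ⁻¹ᵁ U.1) : Set X') := by
      change f z ∈ U.1
      rw [hz]; exact hx
    rw [hsU, Set.mem_iUnion₂] at hzU
    obtain ⟨W, hW, hzW⟩ := hzU
    refine ⟨⟨W, hW⟩, W.2.primeIdealOf ⟨z, hzW⟩, ?_⟩
    refine (IsAffineOpen.comap_primeIdealOf_appLE U.1 U.2 W.1 W.2 (hle ⟨W, hW⟩) hzW).trans ?_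
    refine U.2.fromSpec.isOpenEmbedding.injective ?_
    rw [U.2.fromSpec_primeIdealOf]
    exact hz
  · haveI := QCohLib.finitePresentation_sections ((Scheme.Modules.pullback f).obj M) h W.1.2
    obtain ⟨e, -⟩ := RelFPLib.exists_pullTensorEquiv f M U.2 W.1.2 (hle W)
    exact Module.FinitePresentation.of_equiv e.symm

omit [QuasiCompact f] in
theorem isFlat_of_pullback (M : X.Modules)
    (h : FlatMod.IsFlat ((Scheme.Modules.pullback f).obj M)) : FlatMod.IsFlat M := by
  intro y
  obtain ⟨x, rfl⟩ := f.surjective y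
  have hflat := Flat.stalkMap f x
  algebraize [(f.stalkMap x).hom]
  haveI : IsLocalHom (algebraMap (X.presheaf.stalk (f x)) (X'.presheaf.stalk x)) := f.toLRSHom.prop x
  haveI : Module.FaithfullyFlat (X.presheaf.stalk (f x)) (X'.presheaf.stalk x) :=
    .of_flat_of_isLocalHom
  let e := ((ModGroth.Stalk.pullStalkIso f x).app M).toLinearEquiv
  haveI : Module.Flat (X'.presheaf.stalk x) ((Scheme.Modules.pullback f ⋙ DerSch.stalkFunctor X' x).obj M) := h x
  haveI : Module.Flat (X'.presheaf.stalk x)
      (X'.presheaf.stalk x ⊗[X.presheaf.stalk (f x)] M.presheaf.stalk (f x)) :=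
    Module.Flat.of_linearEquiv e.symm
  exact Module.Flat.of_flat_tensorProduct _ _ (X'.presheaf.stalk x)

theorem isFinLocFree_of_pullback (M : X.Modules) [M.IsQuasicoherent]
    (h : FlatMod.IsFinLocFree ((Scheme.Modules.pullback f).obj M)) : FlatMod.IsFinLocFree M :=
  DCohPerf.isFinLocFree_of_isFP_flat (isFP_of_pullback f M (DCohPerf.isFP_finLocFree h))
    (isFlat_of_pullback f M (ModGroth.Perf.isFlat_of_isFinLocFree h))

end Groth.Agent.CheapQC
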