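import Groth.Agent.QCohLib.Coherent
import Mathlib.RingTheory.Finiteness.ModuleFinitePresentation
import Mathlib.AlgebraicGeometry.Morphisms.FinitePresentation
import Groth.Prelude.Def_CohB1

/-!
# Finite presentation along finite locally finitely presented morphisms
-/

set_option autoImplicit false
universe u
open CategoryTheory AlgebraicGeometry TopologicalSpace Opposite

namespace Groth.Agent.CheapQC

open Groth.Agent.QCohLib

theorem fp_iff_restrict {A B M : Type u} [CommRing A] [CommRing B] [Algebra A B] [AddCommGroup M] [Module A M]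
    [Module B M] [IsScalarTower A B M] [Module.Finite A B] [Algebra.FinitePresentation A B] :
    Module.FinitePresentation B M ↔ Module.FinitePresentation A M := by
  haveI : Module.FinitePresentation A B := Module.FinitePresentation.of_finite_of_finitePresentation A B
  refine ⟨fun _ => Module.FinitePresentation.trans (R := A) (M := M) B, fun h => ?_⟩
  haveI : Module.Finite B M := Module.Finite.of_restrictScalars_finite A B M
  obtain ⟨n, π, hπ⟩ := Module.Finite.exists_fin' B M
  refine Module.finitePresentation_of_surjective π hπ ?_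
  haveI : Module.FinitePresentation A (Fin n → B) := Module.FinitePresentation.trans (R := A) (M := Fin n → B) B
  have hK : (LinearMap.ker (π.restrictScalars A)).FG := Module.FinitePresentation.fg_ker _ hπ
  have hK' : ((LinearMap.ker π).restrictScalars A).FG := hK
  haveI : Module.Finite A (LinearMap.ker π) := Module.Finite.iff_fg.2 hK'
  haveI : Module.Finite B (LinearMap.ker π) := Module.Finite.of_restrictScalars_finite A B _
  exact Module.Finite.iff_fg.1 inferInstance

variable {X Y : Scheme.{u}} (f : X ⟶ Y) [IsFinite f] [LocallyOfFinitePresentation f]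

theorem isFP_pushforward_iff (F : X.Modules) [F.IsQuasicoherent] :
    CohB1.IsFP F ↔ CohB1.IsFP ((Scheme.Modules.pushforward f).obj F) := by
  haveI : ((Scheme.Modules.pushforward f).obj F).IsQuasicoherent := isQuasicoherent_pushforward f
  have key : ∀ U : Y.affineOpens, Module.FinitePresentation Γ(X, f ⁻¹ᵁ U.1) Γ(F, f ⁻¹ᵁ U.1) ↔
      Module.FinitePresentation Γ(Y, U.1) Γ((Scheme.Modules.pushforward f).obj F, U.1) := fun U => by
    algebraize [(f.app U.1).hom]
    haveI : Module.Finite Γ(Y, U.1) Γ(X, f ⁻¹ᵁ U.1) := IsFinite.finite_app f U.1 U.2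
    have hA := HasRingHomProperty.appLE (P := @LocallyOfFinitePresentation) f inferInstance U
      ⟨f ⁻¹ᵁ U.1, U.2.preimage f⟩ le_rfl
    rw [← Scheme.Hom.app_eq_appLE] at hA
    haveI : Algebra.FinitePresentation Γ(Y, U.1) Γ(X, f ⁻¹ᵁ U.1) := hA
    let : Module Γ(Y, U.1) Γ(F, f ⁻¹ᵁ U.1) := Module.compHom _ (f.app U.1).hom
    haveI : IsScalarTower Γ(Y, U.1) Γ(X, f ⁻¹ᵁ U.1) Γ(F, f ⁻¹ᵁ U.1) :=
      IsScalarTower.of_algebraMap_smul fun _ _ => rfl
    exact fp_iff_restrict (A := Γ(Y, U.1)) (B := Γ(X, f ⁻¹ᵁ U.1)) (M := Γ(F, f ⁻¹ᵁ U.1))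
  refine ⟨fun h => (isFinitePresentation_iff_affine _).2 fun U =>
    (key U).1 (finitePresentation_sections F h (U.2.preimage f)), fun h => ?_⟩
  choose W hxW using fun x : X => exists_affine_mem (X := Y) (f x)
  exact isFinitePresentation_of_affine_cover F
    (fun x : X => ⟨f ⁻¹ᵁ (W x).1, (W x).2.preimage f⟩) (fun x => ⟨x, hxW x⟩)
    fun x => (key (W x)).2 (finitePresentation_sections _ h (W x).2)

end Groth.Agent.CheapQC
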