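import Groth.Agent.CohVanish.Sections
import Groth.Agent.QCohLib.Cover
import Groth.Agent.QCohLib.Coherent
import Groth.Agent.QCohLib.Criterion
import Groth.Agent.QCohLib.Pullback

/-!
# Splitting a coherent module along a decomposition of its support
-/

set_option autoImplicit false
universe u
open CategoryTheory CategoryTheory.Limits AlgebraicGeometry TopologicalSpace Opposite

namespace Groth.Agent.CheapQC

theorem exists_split_support (X : Scheme.{u}) [IsNoetherian X] (M : X.Modules) (hM : Coh.IsCoh M)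
    (Z Z' : Set X) (hZ : IsClosed Z) (hZ' : IsClosed Z') (h : CohB1.support M = Z ∪ Z') :
    ∃ S : ShortComplex X.Modules, S.ShortExact ∧ Nonempty (S.X₂ ≅ M) ∧ Coh.IsCoh S.X₁ ∧ Coh.IsCoh S.X₃ ∧
      CohB1.support S.X₁ ⊆ Z' ∧ CohB1.support S.X₃ ⊆ Z := by
  haveI := hM.1
  let V : X.Opens := ⟨Z'ᶜ, hZ'.isOpen_compl⟩
  let M' := M.restrict V.ι
  let P := (Scheme.Modules.pushforward V.ι).obj M'
  let η : M ⟶ P := (Scheme.Modules.restrictAdjunction V.ι).unit.app M
  let p : M ⟶ Abelian.image η := Abelian.factorThruImage η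
  let S := ShortComplex.mk (kernel.ι p) p (kernel.condition p)
  have hS : S.ShortExact := CohVanish.shortExact_of_epi p
  haveI := QCohLib.isQuasicoherent_pullback V.ι M
  haveI : M'.IsQuasicoherent := QCohLib.isQuasicoherent_of_iso ((Scheme.Modules.restrictFunctorIsoPullback V.ι).app M).symm
  haveI : P.IsQuasicoherent := QCohLib.isQuasicoherent_pushforward V.ι
  haveI : (Abelian.image η).IsQuasicoherent := QCohLib.isQuasicoherent_image η
  haveI : (kernel p).IsQuasicoherent := QCohLib.isQuasicoherent_kernel p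
  have hη : ∀ (O : X.Opens) (s : Γ(M, O)), η.app O s =
      M.presheaf.map (homOfLE (V.ι.image_preimage_le O)).op s := fun O s => by
    show ((Scheme.Modules.restrictAdjunction V.ι).unit.app M).app O s = _
    rw [Scheme.Modules.restrictAdjunction_unit_app_app]
    rfl
  refine ⟨S, hS, ⟨Iso.refl _⟩, QCohLib.isCoh_of_mono (kernel.ι p) hM ‹_›, QCohLib.isCoh_of_epi p hM ‹_›,
    fun y hy => ?_, fun y hy => ?_⟩
  · by_contra hyZ
    refine hy (subsingleton_of_forall_eq 0 fun c => ?_)
    have hinj := (QCohLib.mono_iff_stalk_injective (kernel.ι p)).1 inferInstance y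
    refine hinj ?_
    rw [map_zero]
    obtain ⟨O, hyO, s, hs⟩ := M.presheaf.exists_germ_eq (QCohLib.stalkHom (kernel.ι p) y c)
    have h0 : QCohLib.stalkHom η y (QCohLib.stalkHom (kernel.ι p) y c) = 0 := by
      rw [← QCohLib.stalkHom_comp]
      have : kernel.ι p ≫ η = 0 := by
        refine (congrArg (kernel.ι p ≫ ·) (Abelian.image.fac η).symm).trans ?_
        exact (kernel.condition_assoc p _).trans zero_comp
      rw [this, QCohLib.stalkHom_zero]
    rw [← hs, QCohLib.stalkHom_germ, hη] at h0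
    rw [← map_zero (P.presheaf.germ O y hyO).hom] at h0
    obtain ⟨O', hyO', i, i', e⟩ := P.presheaf.germ_eq y _ _ _ _ h0
    rw [map_zero] at e
    rw [← hs]
    have hyI : y ∈ V.ι ''ᵁ (V.ι ⁻¹ᵁ O') := by
      rw [Scheme.Hom.image_preimage_eq_opensRange_inf, Scheme.Opens.opensRange_ι]
      exact ⟨hyZ, hyO'⟩
    have e2 := congrArg (M.presheaf.germ (V.ι ''ᵁ (V.ι ⁻¹ᵁ O')) y hyI) e
    have e3 : (M.presheaf.germ (V.ι ''ᵁ (V.ι ⁻¹ᵁ O')) y hyI) (0 : Γ(M, V.ι ''ᵁ (V.ι ⁻¹ᵁ O'))) = 0 := map_zero _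
    replace e2 := e2.trans e3
    rw [← TopCat.Presheaf.germ_res_apply M.presheaf (homOfLE (V.ι.image_preimage_le O)) y
      (V.ι.image_mono (V.ι.preimage_mono i.le) hyI) s]
    refine Eq.trans ?_ e2
    exact (TopCat.Presheaf.germ_res_apply M.presheaf
      (homOfLE (V.ι.image_mono (V.ι.preimage_mono i.le))) y hyI _).symm
  · by_contra hyZ
    refine hy (subsingleton_of_forall_eq 0 fun c => ?_)
    have hinj := (QCohLib.mono_iff_stalk_injective (Abelian.image.ι η)).1 inferInstance y
    refine hinj ?_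
    rw [map_zero]
    obtain ⟨O, hyO, t, ht⟩ := P.presheaf.exists_germ_eq (QCohLib.stalkHom (Abelian.image.ι η) y c)
    let O' : X.Opens := O ⊓ ⟨Zᶜ, hZ.isOpen_compl⟩
    have hz : P.presheaf.map (homOfLE (inf_le_left : O' ≤ O)).op t = 0 := by
      refine QCohLib.section_ext (M := M) (U := V.ι ''ᵁ (V.ι ⁻¹ᵁ O')) _ _ fun z hz => ?_
      haveI : Subsingleton (M.presheaf.stalk z) := not_not.1 fun hs => by
        rw [Scheme.Hom.image_preimage_eq_opensRange_inf, Scheme.Opens.opensRange_ι] at hz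
        rcases (h ▸ hs : z ∈ Z ∪ Z') with h1 | h1
        · exact hz.2.2 h1
        · exact hz.1 h1
      exact Subsingleton.elim _ _
    rw [← ht, ← TopCat.Presheaf.germ_res_apply P.presheaf (homOfLE (inf_le_left : O' ≤ O)) y ⟨hyO, hyZ⟩ t]
    exact (congrArg _ hz).trans (map_zero _)

end Groth.Agent.CheapQC
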